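import Groth.Agent.ModPairLib.Basic
import Groth.Agent.MorLib.IdealFG2
import Groth.Agent.LimitsH94.Approx.Closed
import Groth.Agent.LimitsH94.Approx.Proper

/-!
# Finitely presented thickenings of a closed subscheme carrying a locally principal ideal
-/

set_option autoImplicit false
set_option backward.isDefEq.respectTransparency false
set_option backward.isDefEq.respectTransparency.types false
set_option linter.style.haveILetI false
universe u

open CategoryTheory Limits AlgebraicGeometry TopologicalSpace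
open Scheme (IdealSheafData)
open Groth.Agent.MorLib.IdealFG

namespace Groth.Agent.ModPairLib95

variable {X P : Scheme.{u}}

theorem exists_sub_finset [CompactSpace P] [QuasiSeparatedSpace P] (I : P.IdealSheafData) {ι : Type*}
    (s : Finset ι) (U : ι → P.affineOpens) (x : ∀ a, Γ(P, (U a).1)) (hx : ∀ a ∈ s, x a ∈ I.ideal (U a)) :
    ∃ K₀ : Sub I, ∀ K : Sub I, K₀ ≤ K → ∀ a ∈ s, x a ∈ K.1.ideal (U a) := by
  classical
  choose K hK using fun a : s => exists_sub_mem I (U a.1) (hx a.1 a.2)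
  obtain ⟨K₀, hK₀⟩ := Finset.exists_le (Finset.univ.image K)
  refine ⟨K₀, fun L hL a ha => ?_⟩
  have h : (K ⟨a, ha⟩).1 ≤ L.1 :=
    le_trans (hK₀ _ (Finset.mem_image_of_mem _ (Finset.mem_univ _))) hL
  exact h (U a) (hK ⟨a, ha⟩)

theorem exists_sub_finitely [CompactSpace P] [QuasiSeparatedSpace P] (I : P.IdealSheafData)
    (U : P.affineOpens) (T : Finset Γ(P, U.1)) (hT : ∀ x ∈ T, x ∈ I.ideal U) :
    ∃ K₀ : Sub I, ∀ K : Sub I, K₀ ≤ K → ↑T ⊆ (K.1.ideal U : Set Γ(P, U.1)) := by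
  obtain ⟨K₀, h⟩ := exists_sub_finset I T (fun _ => U) id hT
  exact ⟨K₀, fun K hK x hx => h K hK x hx⟩

theorem exists_sub_le_sup [CompactSpace P] [QuasiSeparatedSpace P] (I : P.IdealSheafData)
    (U : P.affineOpens) (a b : Ideal Γ(P, U.1)) (ha : a.FG) (h : a ≤ b ⊔ I.ideal U) :
    ∃ K₀ : Sub I, ∀ K : Sub I, K₀ ≤ K → a ≤ b ⊔ K.1.ideal U := by
  classical
  obtain ⟨T, rfl⟩ := ha
  have h1 : ∀ x : T, ∃ l ∈ b, ∃ y ∈ I.ideal U, l + y = x.1 := fun x =>
    Submodule.mem_sup.1 (h (Submodule.subset_span x.2))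
  choose l hl y hy hly using h1
  obtain ⟨K₀, hK₀⟩ := exists_sub_finitely I U (T.attach.image y) fun z hz => by
    obtain ⟨t, -, rfl⟩ := Finset.mem_image.1 hz
    exact hy t
  refine ⟨K₀, fun K hK => Submodule.span_le.2 fun x hx => ?_⟩
  rw [show x = l ⟨x, hx⟩ + y ⟨x, hx⟩ from (hly ⟨x, hx⟩).symm]
  exact Submodule.add_mem_sup (hl _) (hK₀ K hK (Finset.mem_image_of_mem y (Finset.mem_attach _ ⟨x, hx⟩)))

/-- An open cover of a compact scheme by affine opens with finitely many members. -/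
theorem exists_finset_affine [CompactSpace P] : ∃ s : Finset P.affineOpens, ∀ x : P, ∃ U ∈ s, x ∈ U.1 := by
  obtain ⟨s, hs⟩ := isCompact_univ.elim_finite_subcover (fun U : P.affineOpens => (U.1 : Set P))
    (fun U => U.1.2) fun x _ => by
      obtain ⟨W, hW, hxW, -⟩ := exists_isAffineOpen_mem_and_subset (x := x) (U := (⊤ : P.Opens)) trivial
      exact Set.mem_iUnion.2 ⟨⟨W, hW⟩, hxW⟩
  refine ⟨s, fun x => ?_⟩
  obtain ⟨U, hU, hxU⟩ := Set.mem_iUnion₂.1 (hs (Set.mem_univ x))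
  exact ⟨U, hU, hxU⟩

section Closed

variable (i : X ⟶ P) [IsClosedImmersion i]

theorem ideal_comap_closed (M : P.IdealSheafData) (U : P.affineOpens) :
    (M.comap i).ideal ⟨i ⁻¹ᵁ U.1, U.2.preimage i⟩ = (M.ideal U).map (i.app U.1).hom := by
  rw [ModPairLib.ideal_comap M i U _ le_rfl, Scheme.Hom.appLE_eq_app]

theorem le_sup_ker {L M : P.IdealSheafData} (h : L.comap i ≤ M.comap i) (U : P.affineOpens) :
    L.ideal U ≤ M.ideal U ⊔ i.ker.ideal U := by
  have h0 := h ⟨i ⁻¹ᵁ U.1, U.2.preimage i⟩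
  rw [ideal_comap_closed, ideal_comap_closed, Ideal.map_le_iff_le_comap,
    Ideal.comap_map_of_surjective _ (i.app_surjective U.1 U.2)] at h0
  rw [Scheme.Hom.ker_apply]
  exact h0

/-- The ideal of a closed subscheme of `X` is the restriction of a finitely generated ideal of `P`. -/
theorem exists_fg_comap_eq [CompactSpace P] [QuasiSeparatedSpace P] (J : X.IdealSheafData)
    (hJ : IsFG J) : ∃ M : P.IdealSheafData, IsFG M ∧ M.comap i = J := by
  classical
  obtain ⟨s, hs⟩ := isCompact_univ.elim_finite_subcover (fun U : P.affineOpens => (U.1 : Set P))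
    (fun U => U.1.2) fun x _ => by
      obtain ⟨W, hW, hxW, -⟩ := exists_isAffineOpen_mem_and_subset (x := x) (U := (⊤ : P.Opens)) trivial
      exact Set.mem_iUnion.2 ⟨⟨W, hW⟩, hxW⟩
  have h1 : ∀ U : P.affineOpens, ∃ a : Ideal Γ(P, U.1), a.FG ∧
      a.map (i.app U.1).hom = J.ideal ⟨i ⁻¹ᵁ U.1, U.2.preimage i⟩ := fun U => by
    obtain ⟨T, hT⟩ := hJ ⟨i ⁻¹ᵁ U.1, U.2.preimage i⟩
    choose y hy using fun t : T => i.app_surjective U.1 U.2 t.1
    refine ⟨Ideal.span (Set.range y), Submodule.fg_span (Set.finite_range y), ?_⟩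
    rw [Ideal.map_span, ← hT, ← Set.range_comp]
    refine congrArg Ideal.span (Set.ext fun z => ⟨?_, fun hz => ⟨⟨z, hz⟩, hy _⟩⟩)
    rintro ⟨t, rfl⟩
    simp [hy]
  choose a hafg ha using h1
  have h2 : ∀ U, a U ≤ (J.map i).ideal U := fun U => by
    rw [IdealSheafData.ideal_map_of_isAffineHom, ← Ideal.map_le_iff_le_comap, ha]
  have h3 : ∀ U : P.affineOpens, ∃ K : Sub (J.map i), a U ≤ K.1.ideal U := fun U => by
    obtain ⟨K, hK, hfg, haK⟩ := exists_fg_le (J.map i) U (a U) (hafg U) (h2 U)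
    exact ⟨⟨K, hK, hfg⟩, haK⟩
  choose K hK using h3
  obtain ⟨M, hM⟩ := Finset.exists_le (s.image K)
  refine ⟨M.1, M.2.2, le_antisymm ((IdealSheafData.le_map_iff_comap_le).1 M.2.1) ?_⟩
  refine IdealSheafData.le_of_iSup_eq_top (fun U : s => ⟨i ⁻¹ᵁ U.1.1, U.1.2.preimage i⟩) ?_ fun U => ?_
  · refine top_le_iff.1 fun x _ => ?_
    obtain ⟨U, hU, hxU⟩ := Set.mem_iUnion₂.1 (hs (Set.mem_univ (i x)))
    exact Opens.mem_iSup.2 ⟨⟨U, hU⟩, hxU⟩
  · rw [ideal_comap_closed, ← ha U.1]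
    exact Ideal.map_mono ((hK U.1).trans
      ((show (K U.1).1 ≤ M.1 from hM _ (Finset.mem_image_of_mem _ U.2)) U.1))

/-- A finitely generated ideal containment on the closed subscheme holds on a thickening. -/
theorem exists_stage_comap_le' [CompactSpace P] [QuasiSeparatedSpace P] (L M : P.IdealSheafData)
    (hL : IsFG L) (h : L.comap i ≤ M.comap i) :
    ∃ K₀ : Sub i.ker, ∀ K : Sub i.ker, K₀ ≤ K → L.comap K.1.subschemeι ≤ M.comap K.1.subschemeι := by
  classical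
  obtain ⟨s, hs⟩ := isCompact_univ.elim_finite_subcover (fun U : P.affineOpens => (U.1 : Set P))
    (fun U => U.1.2) fun x _ => by
      obtain ⟨W, hW, hxW, -⟩ := exists_isAffineOpen_mem_and_subset (x := x) (U := (⊤ : P.Opens)) trivial
      exact Set.mem_iUnion.2 ⟨⟨W, hW⟩, hxW⟩
  choose K hK using fun U : P.affineOpens =>
    exists_sub_le_sup i.ker U (L.ideal U) (M.ideal U) (hL U) (le_sup_ker i h U)
  obtain ⟨K₀, hK₀⟩ := Finset.exists_le (s.image K)
  refine ⟨K₀, fun N hN => ?_⟩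
  refine IdealSheafData.le_of_iSup_eq_top
    (fun U : s => ⟨N.1.subschemeι ⁻¹ᵁ U.1.1, U.1.2.preimage _⟩) ?_ fun U => ?_
  · refine top_le_iff.1 fun x _ => ?_
    obtain ⟨U, hU, hxU⟩ := Set.mem_iUnion₂.1 (hs (Set.mem_univ (N.1.subschemeι x)))
    exact Opens.mem_iSup.2 ⟨⟨U, hU⟩, hxU⟩
  · have h1 := Ideal.map_mono (f := (N.1.subschemeι.app U.1.1).hom)
      (hK U.1 N (le_trans (hK₀ _ (Finset.mem_image_of_mem _ U.2)) hN))
    rw [Ideal.map_sup] at h1
    rw [ideal_comap_closed, ideal_comap_closed]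
    refine h1.trans (sup_le le_rfl ?_)
    refine le_trans ?_ bot_le
    rw [Ideal.map_le_iff_le_comap, ← RingHom.ker_eq_comap_bot, IdealSheafData.ker_subschemeι_app]

/-- A lift of a locally principal ideal is locally principal on a thickening. -/
theorem exists_stage_isLocPrincipal [CompactSpace P] [QuasiSeparatedSpace P] (M : P.IdealSheafData)
    (hM : IsFG M) (hJ : ModPairLib.IsLocPrincipal (M.comap i)) :
    ∃ K₀ : Sub i.ker, ∀ K : Sub i.ker, K₀ ≤ K → Curv2.IsLocPrincipal (M.comap K.1.subschemeι) := by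
  classical
  have h1 : ∀ x : P, ∃ U : P.affineOpens, x ∈ U.1 ∧ ∃ (a : Γ(P, U.1)) (K₀ : Sub i.ker),
      ∀ K : Sub i.ker, K₀ ≤ K → M.ideal U ⊔ K.1.ideal U = Ideal.span {a} ⊔ K.1.ideal U := by
    intro x
    obtain ⟨U, hxU, a, ha⟩ : ∃ U : P.affineOpens, x ∈ U.1 ∧ ∃ a : Γ(P, U.1),
        (M.ideal U).map (i.app U.1).hom = (Ideal.span {a}).map (i.app U.1).hom := by
      by_cases hx : x ∈ Set.range i
      · obtain ⟨x, rfl⟩ := hx
        obtain ⟨V, hxV, b, hb⟩ := hJ x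
        obtain ⟨W, hWo, hW⟩ := i.isClosedEmbedding.isInducing.isOpen_iff.1 V.1.2
        obtain ⟨U, hU, hxU, hUW⟩ := exists_isAffineOpen_mem_and_subset (X := P) (U := ⟨W, hWo⟩) (x := i x)
          (show i x ∈ W from hW.ge hxV)
        have hle : i ⁻¹ᵁ U ≤ V.1 := fun z hz => hW.le (hUW hz)
        obtain ⟨a, ha⟩ := i.app_surjective U hU (X.presheaf.map (homOfLE hle).op b)
        refine ⟨⟨U, hU⟩, hxU, a, ?_⟩
        rw [← ideal_comap_closed, Ideal.map_span, Set.image_singleton, ha,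
          ← IdealSheafData.map_ideal (M.comap i) (U := ⟨i ⁻¹ᵁ U, hU.preimage i⟩) (V := V) hle, hb,
          Ideal.map_span, Set.image_singleton]
        rfl
      · obtain ⟨U, hU, hxU, hUW⟩ := exists_isAffineOpen_mem_and_subset (X := P)
          (U := ⟨(Set.range i)ᶜ, i.isClosedEmbedding.isClosed_range.isOpen_compl⟩) (x := x) hx
        refine ⟨⟨U, hU⟩, hxU, 1, ?_⟩
        haveI : Subsingleton Γ(X, i ⁻¹ᵁ U) := by
          rw [show i ⁻¹ᵁ U = ⊥ from eq_bot_iff.2 fun z hz => (hUW hz ⟨z, rfl⟩).elim]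
          exact CommRingCat.subsingleton_of_isTerminal X.sheaf.isTerminalOfEmpty
        exact Subsingleton.elim _ _
    have key := congrArg (Ideal.comap (i.app U.1).hom) ha
    simp only [Ideal.comap_map_of_surjective _ (i.app_surjective U.1 U.2), ← RingHom.ker_eq_comap_bot,
      ← Scheme.Hom.ker_apply] at key
    obtain ⟨K₁, hK₁⟩ := exists_sub_le_sup i.ker U (Ideal.span {a}) (M.ideal U)
      (Submodule.fg_span_singleton a) (le_sup_left.trans key.ge)
    obtain ⟨K₂, hK₂⟩ := exists_sub_le_sup i.ker U (M.ideal U) (Ideal.span {a}) (hM U)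
      (le_sup_left.trans key.le)
    obtain ⟨K₀, h₁, h₂⟩ := exists_ge_ge K₁ K₂
    exact ⟨U, hxU, a, K₀, fun K hK => le_antisymm (sup_le (hK₂ K (h₂.trans hK)) le_sup_right)
      (sup_le (hK₁ K (h₁.trans hK)) le_sup_right)⟩
  choose U hxU a K hK using h1
  obtain ⟨t, ht⟩ := isCompact_univ.elim_finite_subcover (fun x : P => ((U x).1 : Set P))
    (fun x => (U x).1.2) fun x _ => Set.mem_iUnion.2 ⟨x, hxU x⟩
  obtain ⟨K₀, hK₀⟩ := Finset.exists_le (t.image K)
  refine ⟨K₀, fun N hN y _ => ?_⟩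
  obtain ⟨x, hx, hyx⟩ := Set.mem_iUnion₂.1 (ht (Set.mem_univ (N.1.subschemeι y)))
  refine ⟨⟨N.1.subschemeι ⁻¹ᵁ (U x).1, (U x).2.preimage _⟩, hyx, (N.1.subschemeι.app (U x).1).hom (a x), ?_⟩
  have h0 : (N.1.ideal (U x)).map (N.1.subschemeι.app (U x).1).hom = ⊥ := by
    rw [Ideal.map_eq_bot_iff_le_ker, IdealSheafData.ker_subschemeι_app]
  have h1 := congrArg (Ideal.map (N.1.subschemeι.app (U x).1).hom)
    (hK x N (le_trans (hK₀ _ (Finset.mem_image_of_mem _ hx)) hN))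
  rw [Ideal.map_sup, Ideal.map_sup, h0, sup_bot_eq, sup_bot_eq, Ideal.map_span, Set.image_singleton] at h1
  rw [ideal_comap_closed]
  exact h1

theorem finitePresentation_appLE {S : Scheme.{u}} (f : X ⟶ S) (O : X.Opens)
    [LocallyOfFinitePresentation (O.ι ≫ f)] {A : S.Opens} (hA : IsAffineOpen A) {V : X.Opens}
    (hV : IsAffineOpen V) (hVO : V ≤ O) (e : V ≤ f ⁻¹ᵁ A) : (f.appLE A V e).hom.FinitePresentation := by
  have hV' : O.ι ''ᵁ (O.ι ⁻¹ᵁ V) = V := by
    rw [Scheme.Hom.image_preimage_eq_opensRange_inf, Scheme.Opens.opensRange_ι, inf_eq_right]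
    exact hVO
  have hV'' : IsAffineOpen (O.ι ⁻¹ᵁ V) := by
    rw [← Scheme.Hom.isAffineOpen_iff_of_isOpenImmersion O.ι, hV']; exact hV
  haveI : IsIso (O.ι.appLE V (O.ι ⁻¹ᵁ V) le_rfl) := by
    haveI := Scheme.Hom.isIso_app O.ι V (by rw [Scheme.Opens.opensRange_ι]; exact hVO)
    rw [← Scheme.Hom.app_eq_appLE]
    infer_instance
  have h := (O.ι ≫ f).finitePresentation_appLE hA hV''
    ((O.ι.preimage_mono e).trans (Scheme.Hom.comp_preimage O.ι f A).ge)
  rw [← Scheme.Hom.appLE_comp_appLE O.ι f A V (O.ι ⁻¹ᵁ V) e le_rfl, CommRingCat.hom_comp] at h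
  exact (RingHom.finitePresentation_respectsIso.cancel_right_isIso (f.appLE A V e) _).1 h

/-- A closed subscheme isomorphic to the base over a quasi-compact open equals a thickening there. -/
theorem exists_stage_isIso_restrict {S : Scheme.{u}} [CompactSpace P] [QuasiSeparatedSpace P] (p : P ⟶ S)
    [LocallyOfFinitePresentation p] [QuasiCompact p] (f : X ⟶ S) (hf : i ≫ p = f) (U : S.Opens)
    (hU : IsCompact (U : Set S)) [IsIso (f ∣_ U)] :
    ∃ K₀ : Sub i.ker, ∀ K : Sub i.ker, K₀ ≤ K → IsIso ((K.1.subschemeι ≫ p) ∣_ U) := by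
  classical
  haveI : LocallyOfFinitePresentation ((f ⁻¹ᵁ U).ι ≫ f) := by
    rw [← morphismRestrict_ι]; infer_instance
  have h1 : ∀ x : (p ⁻¹ᵁ U : P.Opens), ∃ V : P.affineOpens, x.1 ∈ V.1 ∧ V.1 ≤ p ⁻¹ᵁ U ∧
      (i.ker.ideal V).FG := fun x => by
    obtain ⟨A, hA, hxA, hAU⟩ := exists_isAffineOpen_mem_and_subset (X := S) (U := U) (x := p x.1) x.2
    obtain ⟨V, hV, hxV, hVA⟩ := exists_isAffineOpen_mem_and_subset (X := P) (U := p ⁻¹ᵁ A) (x := x.1) hxA
    refine ⟨⟨V, hV⟩, hxV, fun z hz => hAU (hVA hz), ?_⟩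
    have e : i ⁻¹ᵁ V ≤ f ⁻¹ᵁ A := by rw [← hf, Scheme.Hom.comp_preimage]; exact i.preimage_mono hVA
    have hB := finitePresentation_appLE f (f ⁻¹ᵁ U) hA (hV.preimage i) (e.trans (f.preimage_mono hAU)) e
    have hC := p.finitePresentation_appLE hA hV hVA
    have hcomp : (i.app V).hom.comp (p.appLE A V hVA).hom = (f.appLE A (i ⁻¹ᵁ V) e).hom := by
      subst hf
      rw [← Scheme.Hom.appLE_comp_appLE i p A V (i ⁻¹ᵁ V) hVA le_rfl, Scheme.Hom.app_eq_appLE]
      rfl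
    letI := (p.appLE A V hVA).hom.toAlgebra
    letI := (f.appLE A (i ⁻¹ᵁ V) e).hom.toAlgebra
    haveI : Algebra.FinitePresentation Γ(S, A) Γ(P, V) := hC
    haveI : Algebra.FinitePresentation Γ(S, A) Γ(X, i ⁻¹ᵁ V) := hB
    let φ : Γ(P, V) →ₐ[Γ(S, A)] Γ(X, i ⁻¹ᵁ V) :=
      { toRingHom := (i.app V).hom, commutes' := fun r => RingHom.congr_fun hcomp r }
    rw [Scheme.Hom.ker_apply]
    exact Algebra.FinitePresentation.ker_fG_of_surjective φ (i.app_surjective V hV)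
  choose V hxV hVU hfg using h1
  have hc : IsCompact ((p ⁻¹ᵁ U : P.Opens) : Set P) := p.isCompact_preimage hU
  obtain ⟨t, ht⟩ := hc.elim_finite_subcover (fun x => ((V x).1 : Set P)) (fun x => (V x).1.2)
    fun x hx => Set.mem_iUnion.2 ⟨⟨x, hx⟩, hxV _⟩
  choose K hK using fun x => exists_sub_le_sup i.ker (V x) (i.ker.ideal (V x)) ⊥ (hfg x)
    (by rw [bot_sup_eq])
  obtain ⟨K₀, hK₀⟩ := Finset.exists_le (t.image K)
  refine ⟨K₀, fun N hN => ?_⟩
  let g : X ⟶ N.1.subscheme :=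
    IsClosedImmersion.lift N.1.subschemeι i (by rw [IdealSheafData.ker_subschemeι]; exact N.2.1)
  have hg : g ≫ N.1.subschemeι = i := IsClosedImmersion.lift_fac _ _ _
  haveI : IsClosedImmersion (g ≫ N.1.subschemeι) := by rw [hg]; infer_instance
  haveI : IsClosedImmersion g := IsClosedImmersion.of_comp g N.1.subschemeι
  let O := (N.1.subschemeι ≫ p) ⁻¹ᵁ U
  haveI : IsIso (g ∣_ O) := by
    refine IsZariskiLocalAtTarget.of_iSup_eq_top (P := MorphismProperty.isomorphisms Scheme.{u})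
      (fun x : t => O.ι ⁻¹ᵁ (N.1.subschemeι ⁻¹ᵁ (V x.1).1)) ?_ fun x => ?_
    · refine top_le_iff.1 fun z _ => ?_
      obtain ⟨x, hx, hzx⟩ := Set.mem_iUnion₂.1 (ht (show N.1.subschemeι z.1 ∈ (p ⁻¹ᵁ U : Set P) from z.2))
      exact Opens.mem_iSup.2 ⟨⟨x, hx⟩, hzx⟩
    · refine ((MorphismProperty.isomorphisms Scheme.{u}).arrow_mk_iso_iff
        (morphismRestrictRestrict g O _ ≪≫ morphismRestrictEq g
          (V := N.1.subschemeι ⁻¹ᵁ (V x.1).1) ?_)).2 ?_
      · rw [Scheme.Hom.image_preimage_eq_opensRange_inf, Scheme.Opens.opensRange_ι, inf_eq_right]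
        exact fun z hz => hVU x.1 hz
      · let W := N.1.subschemeι ⁻¹ᵁ (V x.1).1
        haveI : IsAffine (W : Scheme.{u}) := (V x.1).2.preimage _
        haveI : IsAffine (g ⁻¹ᵁ W : Scheme.{u}) := ((V x.1).2.preimage _).preimage g
        have hbij : Function.Bijective (g.app W) := by
          refine ⟨(injective_iff_map_eq_zero _).2 fun y hy => ?_, g.app_surjective W ((V x.1).2.preimage _)⟩
          obtain ⟨y, rfl⟩ := N.1.subschemeι.app_surjective (V x.1).1 (V x.1).2 y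
          have h0 : y ∈ i.ker.ideal (V x.1) := by
            rw [Scheme.Hom.ker_apply, RingHom.mem_ker, ← Scheme.Hom.congr_app hg.symm (V x.1).1 |>.symm]
            simp only [Scheme.Hom.comp_app, CommRingCat.comp_apply]
            exact (congrArg _ hy).trans (map_zero _)
          have h1 := hK x.1 N (le_trans (hK₀ _ (Finset.mem_image_of_mem _ x.2)) hN) h0
          rw [bot_sup_eq] at h1
          rw [← RingHom.mem_ker, IdealSheafData.ker_subschemeι_app]
          exact h1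
        haveI : IsIso (g.app W) := (ConcreteCategory.isIso_iff_bijective _).2 hbij
        haveI : IsIso (g ∣_ W).appTop := by
          rw [morphismRestrict_appTop]
          have key : ∀ O' : N.1.subscheme.Opens, O' = W → IsIso (g.app O') := by rintro O' rfl; infer_instance
          haveI := key _ W.ι_image_top
          infer_instance
        show IsIso (g ∣_ W)
        rw [show g ∣_ W = (g ⁻¹ᵁ W : Scheme.{u}).isoSpec.hom ≫ Spec.map (g ∣_ W).appTop ≫
          (W : Scheme.{u}).isoSpec.inv by rw [Scheme.isoSpec_hom_naturality_assoc, Iso.hom_inv_id, Category.comp_id]]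
        infer_instance
  have hpre : f ⁻¹ᵁ U = g ⁻¹ᵁ O := by
    show f ⁻¹ᵁ U = g ⁻¹ᵁ ((N.1.subschemeι ≫ p) ⁻¹ᵁ U)
    rw [← Scheme.Hom.comp_preimage, ← Category.assoc, hg, hf]
  have e : f ∣_ U = ((X.isoOfEq hpre).hom ≫ (g ∣_ O)) ≫ ((N.1.subschemeι ≫ p) ∣_ U) := by
    rw [← cancel_mono U.ι]
    simp only [Category.assoc, morphismRestrict_ι, O]
    rw [morphismRestrict_ι_assoc, Scheme.isoOfEq_hom_ι_assoc, ← Category.assoc g, hg, hf]
  haveI : IsIso (((X.isoOfEq hpre).hom ≫ (g ∣_ O)) ≫ ((N.1.subschemeι ≫ p) ∣_ U)) := by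
    rw [← e]; infer_instance
  exact IsIso.of_isIso_comp_left ((X.isoOfEq hpre).hom ≫ (g ∣_ O)) _

end Closed

end Groth.Agent.ModPairLib95
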