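import Groth.Agent.ModPairLib95.ApproxClosed

/-!
# The system of thickenings above a given stage
-/

set_option autoImplicit false
set_option backward.isDefEq.respectTransparency false
set_option backward.isDefEq.respectTransparency.types false
universe u

open CategoryTheory Limits AlgebraicGeometry Opposite TopologicalSpace
open Scheme (IdealSheafData)
open Groth.Agent.MorLib.IdealFG

namespace Groth.Agent.ModPairLib95

/-- The thickenings above `K₀` form a system with limit the closed subscheme. -/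
theorem exists_system_above {X P S : Scheme.{u}} (i : X ⟶ P) [IsClosedImmersion i] (p : P ⟶ S)
    [CompactSpace P] [QuasiSeparatedSpace P] (f : X ⟶ S) (hf : i ≫ p = f) (K₀ : Sub i.ker) :
    ∃ (J : Type u) (_ : Preorder J) (_ : IsDirected J (fun a b => a ≤ b)) (_ : Nonempty J)
      (D : Jᵒᵖ ⥤ Over S) (π : (Functor.const Jᵒᵖ).obj (Over.mk f) ⟶ D) (_ : IsLimit (Cone.mk (Over.mk f) π))
      (z : ∀ k, (D.obj k).left ⟶ P),
      (∀ k, (π.app k).left ≫ z k = i) ∧ (∀ (k l : Jᵒᵖ) (a : k ⟶ l), (D.map a).left ≫ z l = z k) ∧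
      ∀ k, ∃ (K : Sub i.ker) (e : (D.obj k).left ≅ K.1.subscheme),
        K₀ ≤ K ∧ e.hom ≫ K.1.subschemeι = z k ∧ z k ≫ p = (D.obj k).hom := by
  let J := {K : Sub i.ker // K₀ ≤ K}
  haveI : Nonempty J := ⟨⟨K₀, le_rfl⟩⟩
  haveI : IsDirected J (fun a b => a ≤ b) := ⟨fun K L => by
    obtain ⟨M, h1, h2⟩ := exists_ge_ge K.1 L.1
    exact ⟨⟨M, K.2.trans h1⟩, h1, h2⟩⟩
  let inc : ∀ {K L : J}, K ≤ L → (L.1.1.subscheme ⟶ K.1.1.subscheme) := fun {K L} h =>
    IdealSheafData.inclusion (show K.1.1 ≤ L.1.1 from h)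
  have hinc : ∀ {K L : J} (h : K ≤ L), inc h ≫ K.1.1.subschemeι = L.1.1.subschemeι :=
    fun h => IdealSheafData.inclusion_subschemeι _
  let g : ∀ K : J, X ⟶ K.1.1.subscheme := fun K =>
    IsClosedImmersion.lift K.1.1.subschemeι i (by rw [IdealSheafData.ker_subschemeι]; exact K.1.2.1)
  have hg : ∀ K, g K ≫ K.1.1.subschemeι = i := fun K => IsClosedImmersion.lift_fac _ _ _
  let D : Jᵒᵖ ⥤ Over S :=
    { obj := fun K => Over.mk (K.unop.1.1.subschemeι ≫ p)
      map := fun {K L} a => Over.homMk (inc (leOfHom a.unop))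
        (show inc (leOfHom a.unop) ≫ L.unop.1.1.subschemeι ≫ p = K.unop.1.1.subschemeι ≫ p by
          rw [reassoc_of% (hinc (leOfHom a.unop))])
      map_id := fun K => Over.OverMorphism.ext (by
        show inc (le_refl K.unop) = 𝟙 _
        rw [← cancel_mono K.unop.1.1.subschemeι, hinc (le_refl K.unop), Category.id_comp])
      map_comp := fun {K L M} a b => Over.OverMorphism.ext (by
        show inc (leOfHom (a ≫ b).unop) = inc (leOfHom a.unop) ≫ inc (leOfHom b.unop)
        rw [← cancel_mono M.unop.1.1.subschemeι, hinc (leOfHom (a ≫ b).unop), Category.assoc,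
          hinc (leOfHom b.unop), hinc (leOfHom a.unop)]) }
  let π : (Functor.const Jᵒᵖ).obj (Over.mk f) ⟶ D :=
    { app := fun K => Over.homMk (g K.unop)
        (show g K.unop ≫ K.unop.1.1.subschemeι ≫ p = f by rw [reassoc_of% (hg K.unop), hf])
      naturality := fun K L a => Over.OverMorphism.ext (by
        show 𝟙 X ≫ g L.unop = g K.unop ≫ inc (leOfHom a.unop)
        rw [← cancel_mono L.unop.1.1.subschemeι, Category.id_comp, hg, Category.assoc, hinc (leOfHom a.unop), hg]) }
  have hlift : ∀ s : Cone D, ∃ m : s.pt ⟶ Over.mk f, ∀ K, m ≫ π.app K = s.π.app K := by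
    intro s
    let t : ∀ K : J, s.pt.left ⟶ P := fun K => (s.π.app (op K)).left ≫ K.1.1.subschemeι
    have hmono : ∀ K L : J, K ≤ L → t L = t K := fun K L h => by
      have e : (s.π.app (op L)).left ≫ inc h = (s.π.app (op K)).left :=
        congrArg Over.Hom.left (s.w (homOfLE h).op)
      show (s.π.app (op L)).left ≫ L.1.1.subschemeι = (s.π.app (op K)).left ≫ K.1.1.subschemeι
      rw [← e, Category.assoc, hinc h]
    have hconst : ∀ K L : J, t K = t L := fun K L => by
      obtain ⟨M, h1, h2⟩ := exists_ge_ge K L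
      rw [← hmono K M h1, hmono L M h2]
    have hle : i.ker ≤ (t ⟨K₀, le_rfl⟩).ker := le_of_forall_sub fun K => by
      obtain ⟨M, h1, h2⟩ := exists_ge_ge K K₀
      rw [hconst ⟨K₀, le_rfl⟩ ⟨M, h2⟩]
      exact (show K.1 ≤ M.1 from h1).trans
        ((IdealSheafData.ker_subschemeι M.1).ge.trans (Scheme.Hom.le_ker_comp _ _))
    refine ⟨Over.homMk (IsClosedImmersion.lift i (t ⟨K₀, le_rfl⟩) hle) ?_, fun K => Over.OverMorphism.ext ?_⟩
    · show IsClosedImmersion.lift i (t ⟨K₀, le_rfl⟩) hle ≫ f = s.pt.hom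
      rw [← hf, IsClosedImmersion.lift_fac_assoc]
      exact (Category.assoc _ _ _).trans (Over.w (s.π.app (op (⟨K₀, le_rfl⟩ : J))))
    · show IsClosedImmersion.lift i (t ⟨K₀, le_rfl⟩) hle ≫ g K.unop = (s.π.app K).left
      rw [← cancel_mono K.unop.1.1.subschemeι, Category.assoc, hg, IsClosedImmersion.lift_fac]
      exact hconst ⟨K₀, le_rfl⟩ K.unop
  choose lift hliftfac using hlift
  refine ⟨J, inferInstance, inferInstance, inferInstance, D, π,
    { lift := lift, fac := hliftfac, uniq := fun s m hm => Over.OverMorphism.ext ?_ },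
    fun K => K.unop.1.1.subschemeι, fun K => hg _, fun K L a => hinc (leOfHom a.unop),
    fun K => ⟨K.unop.1, Iso.refl _, K.unop.2, Category.id_comp _, rfl⟩⟩
  have e := congrArg Over.Hom.left ((hm (op (⟨K₀, le_rfl⟩ : J))).trans (hliftfac s _).symm)
  have e' : (m.left ≫ g _) ≫ _ = ((lift s).left ≫ g _) ≫ _ :=
    congrArg (· ≫ (⟨K₀, le_rfl⟩ : J).1.1.subschemeι) e
  rwa [Category.assoc, Category.assoc, hg, cancel_mono] at e'

end Groth.Agent.ModPairLib95
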