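import Groth.Agent.ModPairLib.Basic
import Groth.Agent.LimitsH94.LimAffine

/-!
# Inclusions of finitely generated ideal sheaves descend along affine cofiltered limits
-/

set_option autoImplicit false
universe u

open CategoryTheory Limits AlgebraicGeometry TopologicalSpace

namespace Groth.Agent.ModPairLib95

variable {I : Type u} [SmallCategory I] [IsCofiltered I] {D : I ⥤ Scheme.{u}} {c : Cone D}
  [∀ (a b : I) (f : a ⟶ b), IsAffineHom (D.map f)]

open Groth.Agent.LimitsH94.LM in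
/-- An element in the extension of an ideal to the limit lies in its extension to a stage. -/
theorem exists_mem_map_stage (hc : IsLimit c) {i : I} {U : (D.obj i).Opens} (hU : IsAffineOpen U)
    (a : Ideal Γ(D.obj i, U)) (x : Γ(D.obj i, U))
    (hx : algebraMap _ (SecLim c U) x ∈ a.map (algebraMap Γ(D.obj i, U) (SecLim c U))) :
    ∃ j : Over i, ∀ k : Over i, (k ⟶ j) →
      algebraMap _ (Sec U k) x ∈ a.map (algebraMap Γ(D.obj i, U) (Sec U k)) := by
  have hG := isColim hc hU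
  have step : ∀ {k l : Over i} (φ : Groth.Agent.DirColim.Trans (g c U) k l) (w : Sec U k),
      w ∈ a.map (algebraMap Γ(D.obj i, U) (Sec U k)) →
        φ.1 w ∈ a.map (algebraMap Γ(D.obj i, U) (Sec U l)) := by
    intro k l φ w hw
    have h := Ideal.mem_map_of_mem φ.1.toRingHom hw
    rw [Ideal.map_map] at h
    have e : φ.1.toRingHom.comp (algebraMap Γ(D.obj i, U) (Sec U k)) =
        algebraMap Γ(D.obj i, U) (Sec U l) := φ.1.comp_algebraMap
    rw [e] at h
    exact h
  have key : ∀ z ∈ a.map (algebraMap Γ(D.obj i, U) (SecLim c U)),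
      ∃ (k : Over i) (w : Sec U k), w ∈ a.map (algebraMap Γ(D.obj i, U) (Sec U k)) ∧ g c U k w = z := by
    intro z hz
    induction hz using Submodule.span_induction with
    | mem z hz =>
      obtain ⟨y, hy, rfl⟩ := hz
      exact ⟨Over.mk (𝟙 i), algebraMap _ _ y, Ideal.mem_map_of_mem _ hy, (g c U _).commutes y⟩
    | zero => exact ⟨Over.mk (𝟙 i), 0, Ideal.zero_mem _, map_zero _⟩
    | add z z' _ _ h h' =>
      obtain ⟨k, w, hw, rfl⟩ := h
      obtain ⟨k', w', hw', rfl⟩ := h'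
      obtain ⟨l, ⟨p⟩, ⟨p'⟩⟩ := hG.directed k k'
      exact ⟨l, p.1 w + p'.1 w', Ideal.add_mem _ (step p w hw) (step p' w' hw'),
        by rw [map_add, p.apply, p'.apply]⟩
    | smul r z _ h =>
      obtain ⟨k, w, hw, rfl⟩ := h
      obtain ⟨k', t, rfl⟩ := hG.surj r
      obtain ⟨l, ⟨p⟩, ⟨p'⟩⟩ := hG.directed k k'
      exact ⟨l, p'.1 t * p.1 w, Ideal.mul_mem_left _ _ (step p w hw),
        by rw [map_mul, p.apply, p'.apply]; rfl⟩
  obtain ⟨k, w, hw, hwx⟩ := key _ hx
  obtain ⟨j, φ, hφ⟩ := hG.eq_of_apply_eq k w (algebraMap _ _ x) (hwx.trans ((g c U k).commutes x).symm)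
  refine ⟨j, fun l f => ?_⟩
  have h : φ.1 w ∈ a.map (algebraMap Γ(D.obj i, U) (Sec U j)) := step φ w hw
  rw [hφ] at h
  have h' := step (tr c U f) _ h
  rwa [φ.1.commutes, (tr c U f).1.commutes] at h'

open Groth.Agent.LimitsH94.LM in
/-- An inclusion between ideal sheaves of a stage, the smaller finitely generated, which holds on the
limit holds at a later stage. -/
theorem exists_stage_comap_le (hc : IsLimit c) {i : I} [CompactSpace (D.obj i)]
    (L K : (D.obj i).IdealSheafData) (hL : ∀ U : (D.obj i).affineOpens, (L.ideal U).FG)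
    (h : L.comap (c.π.app i) ≤ K.comap (c.π.app i)) :
    ∃ (j : I) (φ : j ⟶ i), L.comap (D.map φ) ≤ K.comap (D.map φ) := by
  classical
  haveI : ∀ {a b : I} (f : a ⟶ b), IsAffineHom (D.map f) := fun f => inferInstance
  haveI := isAffineHom_π_app D c hc i
  have hloc : ∀ U : (D.obj i).affineOpens, ∃ j : Over i, ∀ k : Over i, (k ⟶ j) →
      (L.ideal U).map (algebraMap Γ(D.obj i, U.1) (Sec U.1 k)) ≤
        (K.ideal U).map (algebraMap Γ(D.obj i, U.1) (Sec U.1 k)) := by
    intro U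
    obtain ⟨T, hT⟩ := hL U
    have h0 := h ⟨c.π.app i ⁻¹ᵁ U.1, U.2.preimage _⟩
    rw [ModPairLib.ideal_comap L (c.π.app i) U _ le_rfl, ModPairLib.ideal_comap K (c.π.app i) U _ le_rfl,
      Scheme.Hom.appLE_eq_app] at h0
    choose j hj using fun x : T => exists_mem_map_stage hc U.2 (K.ideal U) x.1
      (h0 (Ideal.mem_map_of_mem _ (hT ▸ Submodule.subset_span x.2)))
    obtain ⟨l, hl⟩ := exists_le_all (i := i) Finset.univ j
    refine ⟨l, fun k f => ?_⟩
    rw [← hT]
    refine Ideal.map_le_iff_le_comap.mpr (Submodule.span_le.mpr fun x hx => ?_)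
    obtain ⟨p⟩ := hl ⟨x, hx⟩ (Finset.mem_univ _)
    exact hj ⟨x, hx⟩ k (f ≫ p)
  have hcov : (Set.univ : Set (D.obj i)) ⊆ ⋃ U : (D.obj i).affineOpens, (U.1 : Set (D.obj i)) := by
    intro x _
    obtain ⟨V, hV, hxV, -⟩ := exists_isAffineOpen_mem_and_subset (X := D.obj i) (U := ⊤) (x := x) trivial
    exact Set.mem_iUnion.mpr ⟨⟨V, hV⟩, hxV⟩
  obtain ⟨s, hs⟩ := isCompact_univ.elim_finite_subcover _ (fun U => U.1.2) hcov
  choose j hj using hloc
  obtain ⟨l, hl⟩ := exists_le_all (i := i) s j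
  refine ⟨l.left, l.hom, Scheme.IdealSheafData.le_of_iSup_eq_top
    (fun U : s => ⟨D.map l.hom ⁻¹ᵁ U.1.1, U.1.2.preimage _⟩) ?_ fun U => ?_⟩
  · show iSup (fun U : s => D.map l.hom ⁻¹ᵁ U.1.1) = ⊤
    rw [← Scheme.Hom.preimage_iSup]
    refine top_unique fun x _ => ?_
    obtain ⟨U, hU, hxU⟩ := Set.mem_iUnion₂.mp (hs (Set.mem_univ (D.map l.hom x)))
    exact TopologicalSpace.Opens.mem_iSup.mpr ⟨⟨U, hU⟩, hxU⟩
  · obtain ⟨p⟩ := hl U.1 U.2
    rw [ModPairLib.ideal_comap L (D.map l.hom) U.1 _ le_rfl,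
      ModPairLib.ideal_comap K (D.map l.hom) U.1 _ le_rfl, Scheme.Hom.appLE_eq_app]
    exact hj U.1 l p

/-- Effective Cartier ideal sheaves are finitely generated. -/
theorem fg_of_isLocPrincipal {X : Scheme.{u}} {K : X.IdealSheafData}
    (hK : BlowUp.IsEffCartierIdeal K) (U : X.affineOpens) : (K.ideal U).FG := by
  refine Groth.Agent.MorLib.IdealFG.fg_of_cover _ U fun x _ => ?_
  obtain ⟨V, hxV, a, -, ha⟩ := hK x
  exact ⟨V, hxV, ha ▸ Submodule.fg_span_singleton a⟩

end Groth.Agent.ModPairLib95
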