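import Groth.Agent.FppfRefine.Scheme
import Mathlib

/-!
# Étale neighbourhoods with trivial residue extension refining an fppf cover
-/

set_option autoImplicit false
set_option linter.style.haveILetI false
set_option backward.isDefEq.respectTransparency false
set_option backward.isDefEq.respectTransparency.types false

universe u

open TensorProduct CategoryTheory AlgebraicGeometry

namespace Groth.Agent.ModPairLib95

/-- The residue field extension of `φ` at `P` is trivial, said on elements. -/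
def ResTriv {B C : Type u} [CommRing B] [CommRing C] (φ : B →+* C) (P : Ideal C) : Prop :=
  ∀ c : C, ∃ a b : B, φ b ∉ P ∧ φ b * c - φ a ∈ P

theorem ResTriv.comp {B C D : Type u} [CommRing B] [CommRing C] [CommRing D] {φ : B →+* C}
    {ψ : C →+* D} {P : Ideal D} [P.IsPrime] (h : ResTriv ψ P) (h' : ResTriv φ (P.comap ψ)) :
    ResTriv (ψ.comp φ) P := by
  intro d
  obtain ⟨a, b, hb, hab⟩ := h d
  obtain ⟨a₁, b₁, hb₁, h₁⟩ := h' a
  obtain ⟨a₂, b₂, hb₂, h₂⟩ := h' b
  rw [Ideal.mem_comap] at h₁ h₂ hb₁ hb₂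
  rw [map_sub, map_mul] at h₁ h₂
  refine ⟨a₁ * b₂, a₂ * b₁, ?_, ?_⟩
  · rw [map_mul]
    refine fun hm => (Ideal.IsPrime.mem_or_mem ‹_› hm).elim (fun h3 => ?_) hb₁
    have : ψ (φ b₂) * ψ b ∈ P := by simpa using add_mem h₂ h3
    exact (Ideal.IsPrime.mem_or_mem ‹_› this).elim hb₂ hb
  · have : (ψ.comp φ) (a₂ * b₁) * d - (ψ.comp φ) (a₁ * b₂) =
        ψ (φ b₂) * (ψ (φ b₁) * (ψ b * d - ψ a)) + ψ (φ b₂) * (ψ (φ b₁) * ψ a - ψ (φ a₁))
          - ψ (φ b₁) * d * (ψ (φ b₂) * ψ b - ψ (φ a₂)) := by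
      simp only [RingHom.comp_apply, map_mul]; ring
    rw [this]
    exact sub_mem (add_mem (Ideal.mul_mem_left _ _ (Ideal.mul_mem_left _ _ hab)) (Ideal.mul_mem_left _ _ h₁))
      (Ideal.mul_mem_left _ _ h₂)

theorem resTriv_localization {B C : Type u} [CommRing B] [CommRing C] [Algebra B C] (r : B)
    [IsLocalization.Away r C] (P : Ideal C) [P.IsPrime] : ResTriv (algebraMap B C) P := by
  intro c
  obtain ⟨⟨x, ⟨s, hs⟩⟩, hx⟩ := IsLocalization.surj (Submonoid.powers r) c
  refine ⟨x, s, fun h => ‹P.IsPrime›.ne_top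
    (P.eq_top_of_isUnit_mem h (IsLocalization.map_units C (⟨s, hs⟩ : Submonoid.powers r))), ?_⟩
  rw [mul_comm, hx, sub_self]
  exact P.zero_mem

theorem resTriv_of_bijective {B C : Type u} [CommRing B] [CommRing C] [Algebra B C] (p : Ideal B) [p.IsPrime]
    (P : Ideal C) [P.IsPrime] (hp : p = P.comap (algebraMap B C))
    (h : Function.Bijective (Ideal.ResidueField.mapₐ (R := B) p P (Algebra.ofId B C) hp)) :
    ResTriv (algebraMap B C) P := by
  intro c
  obtain ⟨y, hy⟩ := h.2 (algebraMap C P.ResidueField c)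
  obtain ⟨x, s, hs, rfl⟩ := IsFractionRing.div_surjective (A := B ⧸ p) y
  obtain ⟨a, rfl⟩ := Ideal.Quotient.mk_surjective x
  obtain ⟨b, rfl⟩ := Ideal.Quotient.mk_surjective s
  have hbp : b ∉ p := fun hm => nonZeroDivisors.ne_zero hs (Ideal.Quotient.eq_zero_iff_mem.mpr hm)
  have hbP : algebraMap B C b ∉ P := fun hm => hbp (hp ▸ hm)
  refine ⟨a, b, hbP, ?_⟩
  have hb0 : algebraMap C P.ResidueField (algebraMap B C b) ≠ 0 := fun h0 =>
    hbP (Ideal.algebraMap_residueField_eq_zero.mp h0)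
  rw [← Ideal.algebraMap_residueField_eq_zero, map_sub, map_mul, sub_eq_zero]
  rw [Ideal.ResidueField.mapₐ_apply, map_div₀] at hy
  simp only [← Ideal.Quotient.algebraMap_eq, ← IsScalarTower.algebraMap_apply,
    Ideal.ResidueField.map_algebraMap] at hy
  rw [← hy]
  exact mul_div_cancel₀ _ hb0

/-- The étale-local structure of a faithfully flat finitely presented algebra, with trivial residue field
extension. -/
theorem exists_etale_resTriv (B S₀ : Type u) [CommRing B] [CommRing S₀] [Algebra B S₀]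
    [Module.FaithfullyFlat B S₀] [Algebra.FinitePresentation B S₀] (p : Ideal B) [p.IsPrime] :
    ∃ (C : Type u) (_ : CommRing C) (_ : Algebra B C) (P : Ideal C) (_ : P.IsPrime) (T : Type u) (_ : CommRing T)
      (_ : Algebra C T) (j : S₀ →+* T), Algebra.Etale B C ∧ P.comap (algebraMap B C) = p ∧
        ResTriv (algebraMap B C) P ∧
        Module.Finite C T ∧ Module.FaithfullyFlat C T ∧ Algebra.FinitePresentation C T ∧
        j.comp (algebraMap B S₀) = (algebraMap C T).comp (algebraMap B C) := by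
  obtain ⟨S, _, _, hqf, hft, hSff, hSfp, ⟨σ⟩⟩ := Groth.Agent.S9432.result B S₀
  obtain ⟨q, hq⟩ := PrimeSpectrum.comap_surjective_of_faithfullyFlat (A := B) (B := S) ⟨p, inferInstance⟩
  haveI : q.asIdeal.LiesOver p := ⟨(congrArg PrimeSpectrum.asIdeal hq).symm⟩
  obtain ⟨R', _, _, _, P', _, hP'p, e, he, M, _, hMP, -, heM, hpP, hfin, -⟩ :=
    Algebra.exists_etale_isIdempotentElem_forall_liesOver_eq p q.asIdeal
  let T := Localization.Away e
  haveI : Module.Finite R' T := hfin
  haveI : Algebra.FinitePresentation (R' ⊗[B] S) T := IsLocalization.Away.finitePresentation e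
  haveI : Algebra.FinitePresentation R' T := Algebra.FinitePresentation.trans R' (R' ⊗[B] S) T
  haveI : Module.Flat (R' ⊗[B] S) T := IsLocalization.flat T (Submonoid.powers e)
  haveI : Module.Flat R' T := Module.Flat.trans R' (R' ⊗[B] S) T
  haveI hdisj : (M.map (algebraMap (R' ⊗[B] S) T)).IsPrime :=
    IsLocalization.isPrime_of_isPrime_disjoint (Submonoid.powers e) _ _ ‹_›
      ((Ideal.disjoint_powers_iff_notMem_of_isPrime _).2 heM)
  obtain ⟨r, hr, hrff⟩ := PerfMor.exists_ff_away R' T ⟨_, hdisj⟩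
  have hrP : r ∉ P' := fun hm => hr (by
    have h3 : Ideal.comap (algebraMap R' (R' ⊗[B] S)) M = P' := (hMP.over).symm
    rw [IsScalarTower.algebraMap_eq R' (R' ⊗[B] S) T, ← Ideal.comap_comap]
    exact Ideal.comap_mono Ideal.le_comap_map (h3.symm ▸ hm))
  let R₁ := Localization.Away r
  let T₁ := R₁ ⊗[R'] T
  haveI : Module.FaithfullyFlat R₁ T₁ := hrff
  haveI : Module.FinitePresentation R₁ T₁ := Module.FinitePresentation.of_finite_of_finitePresentation R₁ T₁
  haveI : Module.Projective R₁ T₁ := Module.Flat.projective_of_finitePresentation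
  haveI : Algebra.Etale R' R₁ := Algebra.Etale.of_isLocalizationAway r
  haveI : Algebra.Etale B R₁ := Algebra.Etale.comp B R' R₁
  let P₁ := P'.map (algebraMap R' R₁)
  haveI : P₁.IsPrime := IsLocalization.isPrime_of_isPrime_disjoint (Submonoid.powers r) _ _ ‹_›
    ((Ideal.disjoint_powers_iff_notMem_of_isPrime _).2 hrP)
  let j₁ : S →+* T₁ := (Algebra.TensorProduct.includeRight (R := R') (A := R₁) (B := T)).toRingHom.comp
    ((algebraMap (R' ⊗[B] S) T).comp (Algebra.TensorProduct.includeRight (R := B) (A := R') (B := S)).toRingHom)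
  have hP₁ : P₁.comap (algebraMap R' R₁) = P' :=
    IsLocalization.comap_map_of_isPrime_disjoint (Submonoid.powers r) R₁ ‹_›
      ((Ideal.disjoint_powers_iff_notMem_of_isPrime _).2 hrP)
  have hres : ResTriv (algebraMap B R₁) P₁ := by
    rw [IsScalarTower.algebraMap_eq B R' R₁]
    refine ResTriv.comp (resTriv_localization r P₁) ?_
    rw [hP₁]
    exact resTriv_of_bijective p P' _ hpP
  refine ⟨R₁, inferInstance, inferInstance, P₁, inferInstance, T₁, inferInstance, inferInstance,
    j₁.comp σ.toRingHom, inferInstance, ?_, hres, inferInstance, inferInstance, inferInstance,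
    RingHom.ext fun x => ?_⟩
  · rw [IsScalarTower.algebraMap_eq B R' R₁, ← Ideal.comap_comap, hP₁]
    exact hP'p.over.symm
  simp only [RingHom.comp_apply, AlgHom.toRingHom_eq_coe, RingHom.coe_coe]
  have h1 : Algebra.TensorProduct.includeRight (R := B) (A := R') (B := S) (algebraMap B S x) =
      algebraMap R' (R' ⊗[B] S) (algebraMap B R' x) := by
    rw [AlgHom.commutes]
    rfl
  rw [σ.commutes]
  show Algebra.TensorProduct.includeRight (R := R') (A := R₁) (B := T) (algebraMap (R' ⊗[B] S) T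
    (Algebra.TensorProduct.includeRight (R := B) (A := R') (algebraMap B S x))) = _
  rw [h1, ← IsScalarTower.algebraMap_apply R' (R' ⊗[B] S) T, AlgHom.commutes,
    IsScalarTower.algebraMap_apply R' R₁ T₁, ← IsScalarTower.algebraMap_apply B R' R₁]

/-- Trivial residue extensions give isomorphisms of residue fields. -/
theorem isIso_residueFieldMap_specMap {B C : CommRingCat.{u}} (φ : B ⟶ C) (x : PrimeSpectrum C)
    (h : ResTriv φ.hom x.asIdeal) : IsIso ((Spec.map φ).residueFieldMap x) := by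
  rw [ConcreteCategory.isIso_iff_bijective]
  refine ⟨RingHom.injective _, fun z => ?_⟩
  let η : C →+* (Spec C).residueField x :=
    (CommRingCat.ofHom (algebraMap C x.asIdeal.ResidueField) ≫ (Scheme.Spec.residueFieldIso C x).inv).hom
  let f := ((Spec.map φ).residueFieldMap x).hom
  have hη : ∀ a : B, η (φ.hom a) ∈ f.range := fun a => by
    refine ⟨(Spec B).Γevaluation ((Spec.map φ) x) ((Scheme.ΓSpecIso B).inv a), ?_⟩
    show (((Spec B).Γevaluation ((Spec.map φ) x)) ≫ (Spec.map φ).residueFieldMap x).hom ((Scheme.ΓSpecIso B).inv a) = _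
    rw [Scheme.Γevaluation_naturality]
    show ((Scheme.ΓSpecIso B).inv ≫ (Spec.map φ).appTop ≫ (Spec C).Γevaluation x).hom a = _
    rw [← Scheme.ΓSpecIso_inv_naturality_assoc]
    show _ = (φ ≫ CommRingCat.ofHom (algebraMap C x.asIdeal.ResidueField) ≫ (Scheme.Spec.residueFieldIso C x).inv).hom a
    rw [Scheme.Spec.algebraMap_residueFieldIso_inv]
    rfl
  have hη0 : ∀ c : C, c ∉ x.asIdeal → η c ≠ 0 := fun c hc h0 => hc (by
    rw [← Ideal.algebraMap_residueField_eq_zero]
    apply (ConcreteCategory.bijective_of_isIso (Scheme.Spec.residueFieldIso C x).inv).1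
    rw [map_zero]; exact h0)
  have hηC : ∀ c : C, η c ∈ f.range := by
    intro c
    obtain ⟨a, b, hb, hab⟩ := h c
    obtain ⟨u, hu⟩ := hη a
    obtain ⟨v, hv⟩ := hη b
    have h0 : η (φ.hom b * c - φ.hom a) = 0 := by
      show (Scheme.Spec.residueFieldIso C x).inv.hom (algebraMap C x.asIdeal.ResidueField _) = 0
      rw [Ideal.algebraMap_residueField_eq_zero.mpr hab, map_zero]
    rw [map_sub, map_mul, sub_eq_zero] at h0
    have hv0 : η (φ.hom b) ≠ 0 := hη0 _ hb
    refine ⟨u / v, ?_⟩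
    rw [map_div₀, hu, hv, ← h0, mul_div_cancel_left₀ _ hv0]
  obtain ⟨y, rfl⟩ := (ConcreteCategory.bijective_of_isIso (Scheme.Spec.residueFieldIso C x).inv).2 z
  obtain ⟨c, d, hd, rfl⟩ := IsFractionRing.div_surjective (A := C ⧸ x.asIdeal) y
  obtain ⟨c, rfl⟩ := Ideal.Quotient.mk_surjective c
  obtain ⟨d, rfl⟩ := Ideal.Quotient.mk_surjective d
  obtain ⟨u, hu⟩ := hηC c
  obtain ⟨v, hv⟩ := hηC d
  refine ⟨u / v, ?_⟩
  show f (u / v) = _
  rw [map_div₀, hu, hv]
  exact (map_div₀ (Scheme.Spec.residueFieldIso C x).inv.hom _ _).symm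

end Groth.Agent.ModPairLib95
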