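import Groth.Agent.CohH33.FiniteExtend
import Groth.Agent.ModPairLib.Basic
import Mathlib.AlgebraicGeometry.Morphisms.Finite
import Mathlib.AlgebraicGeometry.Limits

/-!
# Finite morphisms to quasi-compact opens of a qcqs scheme extend to finite morphisms
-/

set_option autoImplicit false
set_option backward.isDefEq.respectTransparency false
set_option backward.isDefEq.respectTransparency.types false
universe u

open CategoryTheory Limits AlgebraicGeometry TopologicalSpace

namespace Groth.Agent.ModPairLib95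

theorem finite_restrict_of_isPullback {U V X Y : Scheme.{u}} {g : U ⟶ V} {iU : U ⟶ X} {iV : V ⟶ Y}
    {f : X ⟶ Y} [IsOpenImmersion iV] (hp : IsPullback g iU iV f) [IsFinite g] :
    IsFinite (f ∣_ iV.opensRange) := by
  haveI : MorphismProperty.RespectsIso (@IsFinite.{u}) :=
    MorphismProperty.IsStableUnderBaseChange.respectsIso
  refine (MorphismProperty.arrow_mk_iso_iff (@IsFinite.{u}) (morphismRestrictOpensRange f iV)).mpr ?_
  rw [← MorphismProperty.cancel_left_of_respectsIso (@IsFinite.{u}) hp.flip.isoPullback.hom,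
    hp.flip.isoPullback_hom_snd]
  infer_instance

/-- One step: extend a finite morphism over a qc open across one more affine open. -/
theorem exists_extend_step {S : Scheme.{u}} [QuasiSeparatedSpace S] (V : S.Opens)
    (hV : IsCompact (V : Set S)) {W : S.Opens} (hW : IsAffineOpen W) {T : Scheme.{u}}
    (g : T ⟶ (V : Scheme.{u})) [IsFinite g] :
    ∃ (P : Scheme.{u}) (q : P ⟶ ((V ⊔ W : S.Opens) : Scheme.{u})) (j : T ⟶ P),
      IsFinite q ∧ IsOpenImmersion j ∧ IsPullback g j (S.homOfLE le_sup_left) q := by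
  haveI : IsAffine (W : Scheme.{u}) := hW
  let X0 : (W : Scheme.{u}).Opens := W.ι ⁻¹ᵁ V
  let O : T.Opens := g ⁻¹ᵁ (V.ι ⁻¹ᵁ W)
  have h1 : Set.range (O.ι ≫ g ≫ V.ι) ⊆ Set.range W.ι := by
    rw [Scheme.Opens.range_ι]
    rintro _ ⟨o, rfl⟩
    exact o.2
  have h2 : Set.range (IsOpenImmersion.lift W.ι (O.ι ≫ g ≫ V.ι) h1) ⊆ Set.range X0.ι := by
    rw [Scheme.Opens.range_ι]
    rintro _ ⟨o, rfl⟩
    show W.ι (IsOpenImmersion.lift W.ι (O.ι ≫ g ≫ V.ι) h1 o) ∈ V
    rw [← Scheme.Hom.comp_apply, IsOpenImmersion.lift_fac]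
    exact (g o.1).2
  let g0 := IsOpenImmersion.lift X0.ι _ h2
  have h3 : Set.range (X0.ι ≫ W.ι) ⊆ Set.range V.ι := by
    rw [Scheme.Opens.range_ι]
    rintro _ ⟨x, rfl⟩
    exact x.2
  let k := IsOpenImmersion.lift V.ι (X0.ι ≫ W.ι) h3
  haveI : IsOpenImmersion k := by
    haveI : IsOpenImmersion (k ≫ V.ι) := by rw [IsOpenImmersion.lift_fac]; infer_instance
    exact IsOpenImmersion.of_comp k V.ι
  have hk : k ≫ V.ι = X0.ι ≫ W.ι := IsOpenImmersion.lift_fac _ _ _
  have hg0 : g0 ≫ X0.ι ≫ W.ι = O.ι ≫ g ≫ V.ι := by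
    rw [IsOpenImmersion.lift_fac_assoc, IsOpenImmersion.lift_fac]
  haveI : IsFinite g0 := by
    refine MorphismProperty.of_isPullback (P := @IsFinite.{u})
      (IsOpenImmersion.isPullback g0 O.ι k g ?_ ?_).flip ‹IsFinite g›
    · rw [← cancel_mono V.ι, Category.assoc, Category.assoc, hk, hg0]
    · rw [Scheme.Opens.opensRange_ι]
      show g ⁻¹ᵁ k.opensRange = g ⁻¹ᵁ (V.ι ⁻¹ᵁ W)
      congr 1
      refine TopologicalSpace.Opens.ext (Set.ext fun x => ⟨?_, fun hx => ?_⟩)
      · rintro ⟨z, rfl⟩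
        show V.ι (k z) ∈ W
        rw [← Scheme.Hom.comp_apply, hk]
        exact (X0.ι z).2
      · refine ⟨⟨⟨V.ι x, hx⟩, x.2⟩, V.ι.isOpenEmbedding.injective ?_⟩
        exact congr($(hk) (⟨⟨V.ι x, hx⟩, x.2⟩ : X0.toScheme))
  have hX0 : IsCompact (X0 : Set W) := by
    refine W.ι.isOpenEmbedding.isInducing.isCompact_iff.mpr ?_
    rw [show W.ι '' (X0 : Set W) = (W : Set S) ∩ (V : Set S) from
      Set.ext fun x => ⟨by rintro ⟨y, hy, rfl⟩; exact ⟨y.2, hy⟩, fun hx => ⟨⟨x, hx.1⟩, hx.2, rfl⟩⟩]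
    exact QuasiSeparatedSpace.inter_isCompact _ _ W.2 hW.isCompact V.2 hV
  obtain ⟨B, _, _, i, hB, hi⟩ := Groth.Agent.CohH33.exists_finite_extend hX0 g0
  set q := Spec.map (CommRingCat.ofHom (algebraMap Γ((W : Scheme.{u}), ⊤) B)) ≫ (W : Scheme.{u}).isoSpec.inv
  haveI : IsFinite q := by
    haveI : MorphismProperty.RespectsIso (@IsFinite.{u}) :=
      MorphismProperty.IsStableUnderBaseChange.respectsIso
    rw [MorphismProperty.cancel_right_of_respectsIso (@IsFinite.{u}), IsFinite.SpecMap_iff]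
    exact RingHom.finite_algebraMap.mpr hB
  haveI : IsOpenImmersion i :=
    MorphismProperty.of_isPullback (P := @IsOpenImmersion) hi.flip (inferInstanceAs (IsOpenImmersion X0.ι))
  have hw : O.ι ≫ g ≫ V.ι = i ≫ q ≫ W.ι := by
    rw [← hg0, ← Category.assoc i, hi.w, Category.assoc]
  let q' : pushout O.ι i ⟶ S := pushout.desc (g ≫ V.ι) (q ≫ W.ι) hw
  have hl : ∀ t, q' (pushout.inl O.ι i t) = V.ι (g t) := fun t => by
    rw [← Scheme.Hom.comp_apply, pushout.inl_desc]; rfl
  have hr : ∀ y, q' (pushout.inr O.ι i y) = W.ι (q y) := fun y => by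
    rw [← Scheme.Hom.comp_apply, pushout.inr_desc]; rfl
  have hsurj : ∀ p : ↑(pushout O.ι i), (∃ t, pushout.inl O.ι i t = p) ∨ ∃ y, pushout.inr O.ι i y = p := by
    intro p
    obtain ⟨a, x, rfl⟩ := Scheme.IsLocallyDirected.ι_jointly_surjective (span O.ι i) p
    match a with
    | none =>
      refine Or.inl ⟨O.ι x, ?_⟩
      rw [← Scheme.Hom.comp_apply]
      exact congr($(colimit.w (span O.ι i) WalkingSpan.Hom.fst) x)
    | some WalkingPair.left => exact Or.inl ⟨x, rfl⟩
    | some WalkingPair.right => exact Or.inr ⟨x, rfl⟩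
  have hrange : Set.range q' ⊆ Set.range (V ⊔ W).ι := by
    rw [Scheme.Opens.range_ι]
    rintro _ ⟨p, rfl⟩
    rcases hsurj p with ⟨t, rfl⟩ | ⟨y, rfl⟩
    · rw [hl]; exact (le_sup_left : V ≤ V ⊔ W) (g t).2
    · rw [hr]; exact (le_sup_right : W ≤ V ⊔ W) (q y).2
  let q'' := IsOpenImmersion.lift (V ⊔ W).ι q' hrange
  have hq'' : q'' ≫ (V ⊔ W).ι = q' := IsOpenImmersion.lift_fac _ _ _
  have hq''x : ∀ p, (V ⊔ W).ι (q'' p) = q' p := fun p => congr($(hq'') p)
  haveI : IsOpenImmersion (pushout.inl O.ι i) :=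
    inferInstanceAs (IsOpenImmersion (colimit.ι (span O.ι i) WalkingSpan.left))
  haveI : IsOpenImmersion (pushout.inr O.ι i) :=
    inferInstanceAs (IsOpenImmersion (colimit.ι (span O.ι i) WalkingSpan.right))
  have hpl : IsPullback g (pushout.inl O.ι i) (S.homOfLE le_sup_left) q'' := by
    refine IsOpenImmersion.isPullback _ _ _ _ ?_ ?_
    · rw [← cancel_mono (V ⊔ W).ι, Category.assoc, Category.assoc, hq'', Scheme.homOfLE_ι, pushout.inl_desc]
    · rw [Scheme.opensRange_homOfLE]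
      refine TopologicalSpace.Opens.ext (Set.ext fun p => ⟨fun hp => ?_, ?_⟩)
      · have hp' : q' p ∈ V := hq''x p ▸ hp
        rcases hsurj p with ⟨t, rfl⟩ | ⟨y, rfl⟩
        · exact ⟨t, rfl⟩
        · rw [hr] at hp'
          obtain ⟨o, ho, -⟩ := Scheme.exists_preimage_of_isPullback hi y (⟨q y, hp'⟩ : X0.toScheme) rfl
          refine ⟨O.ι o, ?_⟩
          rw [← ho]
          exact congr($(pushout.condition (f := O.ι) (g := i)) o)
      · rintro ⟨t, rfl⟩
        show (V ⊔ W).ι (q'' (pushout.inl O.ι i t)) ∈ V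
        rw [hq''x, hl]
        exact (g t).2
  have hpr : IsPullback q (pushout.inr O.ι i) (S.homOfLE le_sup_right) q'' := by
    refine IsOpenImmersion.isPullback _ _ _ _ ?_ ?_
    · rw [← cancel_mono (V ⊔ W).ι, Category.assoc, Category.assoc, hq'', Scheme.homOfLE_ι, pushout.inr_desc]
    · rw [Scheme.opensRange_homOfLE]
      refine TopologicalSpace.Opens.ext (Set.ext fun p => ⟨fun hp => ?_, ?_⟩)
      · have hp' : q' p ∈ W := hq''x p ▸ hp
        rcases hsurj p with ⟨t, rfl⟩ | ⟨y, rfl⟩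
        · rw [hl] at hp'
          exact ⟨i ⟨t, hp'⟩, congr($((pushout.condition (f := O.ι) (g := i)).symm) (⟨t, hp'⟩ : O.toScheme))⟩
        · exact ⟨y, rfl⟩
      · rintro ⟨y, rfl⟩
        show (V ⊔ W).ι (q'' (pushout.inr O.ι i y)) ∈ W
        rw [hq''x, hr]
        exact (q y).2
  refine ⟨_, q'', _, ?_, inferInstance, hpl⟩
  refine IsZariskiLocalAtTarget.of_iSup_eq_top (P := @IsFinite.{u})
    (fun b : Bool => bif b then (S.homOfLE (le_sup_left : V ≤ V ⊔ W)).opensRange
      else (S.homOfLE (le_sup_right : W ≤ V ⊔ W)).opensRange) ?_ fun b => ?_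
  · refine top_unique fun x _ => ?_
    rcases x.2 with hx | hx
    · exact TopologicalSpace.Opens.mem_iSup.mpr
        ⟨true, by rw [cond_true, Scheme.opensRange_homOfLE]; exact hx⟩
    · exact TopologicalSpace.Opens.mem_iSup.mpr
        ⟨false, by rw [cond_false, Scheme.opensRange_homOfLE]; exact hx⟩
  · cases b
    · exact finite_restrict_of_isPullback hpr
    · exact finite_restrict_of_isPullback hpl

/-- A finite morphism to a quasi-compact open of a qcqs scheme extends to a finite morphism. -/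
theorem exists_finite_extend {S : Scheme.{u}} [CompactSpace S] [QuasiSeparatedSpace S] (U : S.Opens)
    (hU : IsCompact (U : Set S)) {T₀ : Scheme.{u}} (t₀ : T₀ ⟶ (U : Scheme.{u})) [IsFinite t₀] :
    ∃ (T : Scheme.{u}) (t : T ⟶ S) (j : T₀ ⟶ T), IsFinite t ∧ IsOpenImmersion j ∧
      IsPullback t₀ j U.ι t := by
  classical
  obtain ⟨s, hs, hcov⟩ := isCompact_iff_finite_and_eq_biUnion_affineOpens.mp
    (show IsCompact ((⊤ : S.Opens) : Set S) from isCompact_univ)
  have key : ∀ s : Finset S.affineOpens, ∃ (V : S.Opens) (hle : U ≤ V) (T : Scheme.{u})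
      (g : T ⟶ (V : Scheme.{u})) (j : T₀ ⟶ T), (∀ W ∈ s, W.1 ≤ V) ∧ IsCompact (V : Set S) ∧
      IsFinite g ∧ IsOpenImmersion j ∧ IsPullback t₀ j (S.homOfLE hle) g := by
    intro s
    induction s using Finset.induction_on with
    | empty =>
      haveI : IsIso (S.homOfLE (le_refl U)) := by rw [Scheme.homOfLE_rfl]; infer_instance
      exact ⟨U, le_rfl, T₀, t₀, 𝟙 _, by simp, hU, inferInstance, inferInstance,
        IsPullback.of_vert_isIso ⟨by simp⟩⟩
    | insert W s _ ih =>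
      obtain ⟨V, hle, T, g, j, hsV, hV, hg, hj, hp⟩ := ih
      obtain ⟨P, q, i, hq, hi, hp'⟩ := exists_extend_step V hV W.2 g
      refine ⟨V ⊔ W.1, hle.trans le_sup_left, P, q, j ≫ i, fun W' hW' => ?_, ?_, hq, inferInstance, ?_⟩
      · rcases Finset.mem_insert.mp hW' with rfl | hW'
        · exact le_sup_right
        · exact (hsV W' hW').trans le_sup_left
      · rw [TopologicalSpace.Opens.coe_sup]
        exact hV.union W.2.isCompact
      · have h' := hp.paste_vert hp'
        rwa [Scheme.homOfLE_homOfLE] at h'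
  obtain ⟨V, hle, T, g, j, hsV, -, hg, hj, hp⟩ := key hs.toFinset
  have hVtop : V = ⊤ := by
    refine top_unique ?_
    rw [hcov]
    exact iSup₂_le fun W hW => hsV W (hs.mem_toFinset.mpr hW)
  subst hVtop
  haveI : IsIso (⊤ : S.Opens).ι := by
    rw [show (⊤ : S.Opens).ι = S.topIso.hom from rfl]; infer_instance
  haveI : IsFinite (g ≫ (⊤ : S.Opens).ι) := inferInstance
  refine ⟨T, g ≫ (⊤ : S.Opens).ι, j, inferInstance, hj, ?_⟩
  have h' := hp.paste_vert (IsPullback.of_vert_isIso (fst := g) (snd := 𝟙 T) (f := (⊤ : S.Opens).ι)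
    (g := g ≫ (⊤ : S.Opens).ι) ⟨by simp⟩)
  rwa [Category.comp_id, Scheme.homOfLE_ι] at h'

end Groth.Agent.ModPairLib95
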