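import Groth.Agent.ModPairLib95.Descend
import Groth.Agent.ModPairLib.Limit

/-!
# Effective Cartier ideal sheaves descend along dominant affine cofiltered limits
-/

set_option autoImplicit false
set_option backward.isDefEq.respectTransparency false
set_option backward.isDefEq.respectTransparency.types false
set_option linter.style.haveILetI false
universe u

open CategoryTheory Limits AlgebraicGeometry TopologicalSpace
open Groth.Agent.MorLib.IdealFG

namespace Groth.Agent.ModPairLib95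

variable {I : Type u} [SmallCategory I] [IsCofiltered I] {D : I ⥤ Scheme.{u}} {c : Cone D}
  [∀ (a b : I) (f : a ⟶ b), IsAffineHom (D.map f)]

open Groth.Agent.LimitsH94.LM in
/-- A generator of an ideal on the limit, over an affine open of a stage, comes from a later stage. -/
theorem exists_stage_generator (hc : IsLimit c) {l : I} (W : (D.obj l).affineOpens)
    (IX : c.pt.IdealSheafData) (U : c.pt.affineOpens) (hU : U.1 = c.π.app l ⁻¹ᵁ W.1)
    (a : Γ(c.pt, U.1)) (ha : IX.ideal U = Ideal.span {a}) :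
    ∃ (k : Over l) (t : Γ(D.obj k.left, D.map k.hom ⁻¹ᵁ W.1)),
      ∀ h : IsAffineOpen (c.π.app k.left ⁻¹ᵁ (D.map k.hom ⁻¹ᵁ W.1)),
        IX.ideal ⟨_, h⟩ = Ideal.span {(c.π.app k.left).app (D.map k.hom ⁻¹ᵁ W.1) t} := by
  obtain ⟨U, hUa⟩ := U
  change U = _ at hU
  subst hU
  obtain ⟨k, t, ht⟩ := (isColim hc W.2).surj a
  refine ⟨k, t, fun h => ?_⟩
  have e : c.π.app k.left ⁻¹ᵁ (D.map k.hom ⁻¹ᵁ W.1) ≤ c.π.app l ⁻¹ᵁ W.1 := by
    rw [← Scheme.Hom.comp_preimage, c.w]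
  rw [← IX.map_ideal (U := ⟨_, h⟩) (V := ⟨_, hUa⟩) e, ha, Ideal.map_span, Set.image_singleton, ← ht]
  have h1 := Scheme.Hom.appLE_map (c.π.app k.left) (le_π c W.1 k) (homOfLE e).op
  rw [Scheme.Hom.appLE_eq_app] at h1
  exact congrArg (fun φ => Ideal.span {φ.hom t}) h1

open Groth.Agent.LimitsH94.LM in
/-- An equality between the extension of a finitely generated ideal and a principal ideal on the limit
holds from some stage on. -/
theorem exists_stage_map_eq_span (hc : IsLimit c) {i : I} {U : (D.obj i).Opens} (hU : IsAffineOpen U)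
    (a : Ideal Γ(D.obj i, U)) (ha : a.FG) (t : Γ(D.obj i, U))
    (h : a.map (algebraMap Γ(D.obj i, U) (SecLim c U)) = Ideal.span {algebraMap _ (SecLim c U) t}) :
    ∃ j : Over i, ∀ k : Over i, (k ⟶ j) →
      a.map (algebraMap Γ(D.obj i, U) (Sec U k)) = Ideal.span {algebraMap _ (Sec U k) t} := by
  classical
  obtain ⟨T, hT⟩ := ha
  obtain ⟨j₀, hj₀⟩ := exists_mem_map_stage hc hU a t (h ▸ Ideal.mem_span_singleton_self _)
  choose j hj using fun x : T => exists_mem_map_stage hc hU (Ideal.span {t}) x.1 (by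
    rw [Ideal.map_span, Set.image_singleton, ← h]
    exact Ideal.mem_map_of_mem _ (hT ▸ Submodule.subset_span x.2))
  obtain ⟨l₁, hl₁⟩ := exists_le_all (i := i) Finset.univ j
  obtain ⟨l, ⟨p⟩, ⟨q⟩⟩ := exists_le l₁ j₀
  refine ⟨l, fun k f => le_antisymm ?_ ?_⟩
  · rw [← hT, Ideal.map_le_iff_le_comap]
    refine Submodule.span_le.mpr fun x hx => ?_
    obtain ⟨r⟩ := hl₁ ⟨x, hx⟩ (Finset.mem_univ _)
    have := hj ⟨x, hx⟩ k (f ≫ p ≫ r)
    rw [Ideal.map_span, Set.image_singleton] at this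
    exact this
  · rw [Ideal.span_singleton_le_iff_mem]
    exact hj₀ k (f ≫ q)

/-- On a dominant system, an effective Cartier ideal sheaf of the limit is the pullback of effective
Cartier ideal sheaves of all stages above some index. -/
theorem exists_stage_isEffCartier (hc : IsLimit c) [∀ i, CompactSpace (D.obj i)]
    [∀ i, QuasiSeparatedSpace (D.obj i)] (hdom : ∀ i, IsSchemeTheoreticallyDominant (c.π.app i))
    (IX : c.pt.IdealSheafData) (hIX : BlowUp.IsEffCartierIdeal IX) :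
    ∃ (i : I) (K : (D.obj i).IdealSheafData), IsFG K ∧ K.comap (c.π.app i) = IX ∧
      ∃ (m : I) (φ : m ⟶ i), ∀ (j : I) (t : j ⟶ m),
        BlowUp.IsEffCartierIdeal (K.comap (D.map (t ≫ φ))) := by
  classical
  haveI : ∀ {a b : I} (f : a ⟶ b), IsAffineHom (D.map f) := fun f => inferInstance
  haveI : ∀ i, IsAffineHom (c.π.app i) := fun i => isAffineHom_π_app D c hc i
  obtain ⟨i₀⟩ : Nonempty I := IsCofiltered.nonempty
  obtain ⟨i, -, K, hK, hKX⟩ :=
    exists_comap_eq hc i₀ IX (fun U => fg_of_isLocPrincipal hIX U)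
  have hIX' := hIX
  choose U hU a ha hspan using hIX
  obtain ⟨i₂, s, V, hVcov, hV⟩ := Scheme.exists_isOpenCover_and_isAffine D c hc (fun x => (U x).1)
    (IsOpenCover.mk (top_unique fun x _ => Opens.mem_iSup.mpr ⟨x, hU x⟩)) (fun x => (U x).2)
  obtain ⟨l, p₁, p₂, -⟩ := IsCofilteredOrEmpty.cone_objs i i₂
  have step : ∀ x : s, ∃ (e : Over l) (W : (D.obj e.left).affineOpens),
      W.1 = D.map (e.hom ≫ p₂) ⁻¹ᵁ V x ∧ ∀ (j : I) (r : j ⟶ e.left), ∃ b,
        (K.comap (D.map (r ≫ e.hom ≫ p₁))).ideal ⟨D.map r ⁻¹ᵁ W.1, W.2.preimage _⟩ =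
          Ideal.span {b} := by
    intro x
    let W : (D.obj l).affineOpens := ⟨D.map p₂ ⁻¹ᵁ V x, (hV x).1.preimage _⟩
    obtain ⟨k, t, ht⟩ := exists_stage_generator hc W IX (U x.1) (by
      show (U x.1).1 = c.π.app l ⁻¹ᵁ (D.map p₂ ⁻¹ᵁ V x)
      rw [← Scheme.Hom.comp_preimage, c.w]; exact (hV x).2) (a x.1) (hspan x.1)
    let W' : (D.obj k.left).affineOpens := ⟨D.map k.hom ⁻¹ᵁ W.1, W.2.preimage _⟩
    let Kk := K.comap (D.map (k.hom ≫ p₁))
    have hKk : Kk.comap (c.π.app k.left) = IX := by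
      rw [← Scheme.IdealSheafData.comap_comp, c.w, hKX]
    have hlim : (Kk.ideal W').map (algebraMap Γ(D.obj k.left, W'.1) (LimitsH94.LM.SecLim c W'.1)) =
        Ideal.span {algebraMap _ (LimitsH94.LM.SecLim c W'.1) t} := by
      have h := ht (W'.2.preimage _)
      rw [← hKk, ModPairLib.ideal_comap Kk (c.π.app k.left) W' _ le_rfl, Scheme.Hom.appLE_eq_app] at h
      exact h
    obtain ⟨k', hk'⟩ := exists_stage_map_eq_span hc W'.2 (Kk.ideal W') (isFG_comap hK _ W') t hlim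
    refine ⟨Over.mk (k'.hom ≫ k.hom), ⟨D.map k'.hom ⁻¹ᵁ W'.1, W'.2.preimage _⟩, ?_, fun j r => ?_⟩
    · simp only [W', W, Over.mk_hom, Functor.map_comp, Category.assoc, Scheme.Hom.comp_preimage]
    · have h := hk' (Over.mk (r ≫ k'.hom)) (Over.homMk r rfl)
      have e : D.map r ⁻¹ᵁ (D.map k'.hom ⁻¹ᵁ W'.1) = D.map (r ≫ k'.hom) ⁻¹ᵁ W'.1 := by
        rw [D.map_comp, Scheme.Hom.comp_preimage]
      have hcomp : K.comap (D.map (r ≫ (k'.hom ≫ k.hom) ≫ p₁)) = Kk.comap (D.map (r ≫ k'.hom)) := by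
        rw [← Scheme.IdealSheafData.comap_comp, ← D.map_comp]; simp
      have h1 : (Kk.comap (D.map (r ≫ k'.hom))).ideal ⟨_, W'.2.preimage _⟩ =
          Ideal.span {(D.map (r ≫ k'.hom)).app W'.1 t} := by
        rw [ModPairLib.ideal_comap Kk (D.map (r ≫ k'.hom)) W' _ le_rfl, Scheme.Hom.appLE_eq_app]
        exact h
      refine ⟨((D.obj j).presheaf.map (homOfLE e.le).op) ((D.map (r ≫ k'.hom)).app W'.1 t), ?_⟩
      show (K.comap (D.map (r ≫ (k'.hom ≫ k.hom) ≫ p₁))).ideal _ = _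
      rw [hcomp, ← (Kk.comap (D.map (r ≫ k'.hom))).map_ideal (U := ⟨_, (W'.2.preimage _).preimage _⟩)
        (V := ⟨_, W'.2.preimage _⟩) e.le, h1, Ideal.map_span, Set.image_singleton]
      rfl
  choose e W hW hspan' using step
  obtain ⟨m, hm⟩ := LimitsH94.LM.exists_le_all (i := l) Finset.univ e
  refine ⟨i, K, hK, hKX, m.left, m.hom ≫ p₁, fun j t y => ?_⟩
  obtain ⟨x, hx⟩ := Opens.mem_iSup.mp (hVcov.ge (Set.mem_univ (D.map (t ≫ m.hom ≫ p₂) y)))
  obtain ⟨q⟩ := hm x (Finset.mem_univ _)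
  obtain ⟨b, hb⟩ := hspan' x j (t ≫ q.left)
  have hpath : (t ≫ q.left) ≫ (e x).hom = t ≫ m.hom := by rw [Category.assoc, Over.w q]
  rw [show (t ≫ q.left) ≫ (e x).hom ≫ p₁ = t ≫ m.hom ≫ p₁ by rw [← Category.assoc, hpath, Category.assoc]] at hb
  refine ⟨⟨D.map (t ≫ q.left) ⁻¹ᵁ (W x).1, (W x).2.preimage _⟩, ?_, b, ?_, hb⟩
  · show D.map (t ≫ q.left) y ∈ (W x).1
    rw [hW x]
    show D.map ((e x).hom ≫ p₂) (D.map (t ≫ q.left) y) ∈ V x
    rw [← Scheme.Hom.comp_apply, ← D.map_comp, ← Category.assoc, hpath, Category.assoc]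
    exact hx
  · let W₁ : (D.obj j).affineOpens := ⟨D.map (t ≫ q.left) ⁻¹ᵁ (W x).1, (W x).2.preimage _⟩
    haveI := hdom j
    have hinj := (c.π.app j).app_injective W₁.1
    have hgen : (c.π.app j).app W₁.1 b ∈ nonZeroDivisors Γ(c.pt, c.π.app j ⁻¹ᵁ W₁.1) := by
      refine ModPairLib.generator_mem_nonZeroDivisors hIX' (W := ⟨_, W₁.2.preimage _⟩) ?_
      rw [← hKX, ← c.w (t ≫ m.hom ≫ p₁), Scheme.IdealSheafData.comap_comp,
        ModPairLib.ideal_comap _ (c.π.app j) W₁ _ le_rfl, hb, Ideal.map_span, Set.image_singleton,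
        Scheme.Hom.appLE_eq_app]
      rfl
    exact mem_nonZeroDivisors_of_injective hinj hgen

end Groth.Agent.ModPairLib95
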