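import Groth.Agent.ModPairLib.Basic
import Groth.Agent.LimitsH94.LimAffine
import Mathlib.AlgebraicGeometry.Morphisms.Finite
import Mathlib.AlgebraicGeometry.Morphisms.Proper

/-!
# A finite morphism from a cofiltered limit is a closed immersion at some stage
-/

set_option autoImplicit false
universe u

open CategoryTheory Limits AlgebraicGeometry TopologicalSpace

namespace Groth.Agent.ModPairLib95

variable {I : Type u} [SmallCategory I] [IsCofiltered I] {D : I ⥤ Scheme.{u}} {c : Cone D}
  [∀ (a b : I) (f : a ⟶ b), IsAffineHom (D.map f)]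

open Groth.Agent.LimitsH94.LM in
/-- If the projection to a stage is finite, then over an affine open the sections of the limit come from a
single later stage. -/
theorem exists_surjective_chart (hc : IsLimit c) (i : I) [IsFinite (c.π.app i)]
    {U : (D.obj i).Opens} (hU : IsAffineOpen U) :
    ∃ j : Over i, ∀ k : Over i, (k ⟶ j) → Function.Surjective (g c U k) := by
  classical
  letI : Algebra Γ(D.obj i, U) (SecLim c U) := algLim c U
  have hfin : Module.Finite Γ(D.obj i, U) (SecLim c U) := (c.π.app i).finite_app U hU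
  obtain ⟨T, hT⟩ := hfin.fg_top
  have hG := isColim hc hU
  choose j t ht using fun a : SecLim c U => hG.surj a
  obtain ⟨l, hl⟩ := exists_le_all (i := i) T j
  refine ⟨l, fun k f a => ?_⟩
  have ha : a ∈ Submodule.span Γ(D.obj i, U) (T : Set (SecLim c U)) := hT ▸ Submodule.mem_top
  induction ha using Submodule.span_induction with
  | mem x hx =>
    obtain ⟨p⟩ := hl x hx
    exact ⟨(tr c U (f ≫ p)).1 (t x), ((tr c U (f ≫ p)).apply _).trans (ht x)⟩
  | zero => exact ⟨0, map_zero _⟩
  | add a b _ _ ha hb =>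
    obtain ⟨x, rfl⟩ := ha
    obtain ⟨y, rfl⟩ := hb
    exact ⟨x + y, map_add _ x y⟩
  | smul r a _ ha =>
    obtain ⟨x, rfl⟩ := ha
    exact ⟨r • x, map_smul _ r x⟩

open Groth.Agent.LimitsH94.LM in
/-- A finite projection from an affine cofiltered limit is a closed immersion at some stage. -/
theorem exists_isClosedImmersion_π (hc : IsLimit c) (i : I) [CompactSpace (D.obj i)]
    [IsFinite (c.π.app i)] : ∃ (j : I) (_ : j ⟶ i), IsClosedImmersion (c.π.app j) := by
  classical
  haveI : ∀ {a b : I} (f : a ⟶ b), IsAffineHom (D.map f) := fun f => inferInstance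
  have hcov : (Set.univ : Set (D.obj i)) ⊆ ⋃ U : (D.obj i).affineOpens, (U.1 : Set (D.obj i)) := by
    intro x _
    obtain ⟨V, hV, hxV, -⟩ := exists_isAffineOpen_mem_and_subset (X := D.obj i) (U := ⊤) (x := x) trivial
    exact Set.mem_iUnion.mpr ⟨⟨V, hV⟩, hxV⟩
  obtain ⟨s, hs⟩ := isCompact_univ.elim_finite_subcover _ (fun U => U.1.2) hcov
  choose j hj using fun U : (D.obj i).affineOpens => exists_surjective_chart hc i U.2
  obtain ⟨l, hl⟩ := exists_le_all (i := i) s j
  refine ⟨l.left, l.hom, ?_⟩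
  haveI := isAffineHom_π_app D c hc l.left
  refine IsZariskiLocalAtTarget.of_iSup_eq_top (P := @IsClosedImmersion)
    (fun U : s => D.map l.hom ⁻¹ᵁ U.1.1) ?_ fun U => ?_
  · rw [← Scheme.Hom.preimage_iSup]
    refine top_unique fun x _ => ?_
    obtain ⟨U, hU, hxU⟩ := Set.mem_iUnion₂.mp (hs (Set.mem_univ (D.map l.hom x)))
    exact TopologicalSpace.Opens.mem_iSup.mpr ⟨⟨U, hU⟩, hxU⟩
  · have hV : IsAffineOpen (D.map l.hom ⁻¹ᵁ U.1.1) := U.1.2.preimage _
    haveI : IsAffine (D.map l.hom ⁻¹ᵁ U.1.1).toScheme := hV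
    haveI : IsAffine (c.π.app l.left ⁻¹ᵁ (D.map l.hom ⁻¹ᵁ U.1.1)).toScheme := hV.preimage _
    refine IsClosedImmersion.of_surjective_of_isAffine _ ?_
    obtain ⟨p⟩ := hl U.1 U.2
    have e : c.π.app l.left ⁻¹ᵁ (D.map l.hom ⁻¹ᵁ U.1.1) = c.π.app i ⁻¹ᵁ U.1.1 := by
      rw [← Scheme.Hom.comp_preimage, c.w]
    have h1 : Function.Surjective ((c.π.app l.left).app (D.map l.hom ⁻¹ᵁ U.1.1)) := by
      have h : Function.Surjective ((c.pt.presheaf.map (homOfLE (le_π c U.1.1 l)).op).hom ∘
          ((c.π.app l.left).app (D.map l.hom ⁻¹ᵁ U.1.1))) := hj U.1 l p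
      have : IsIso (c.pt.presheaf.map (homOfLE (le_π c U.1.1 l)).op) := by
        have : IsIso (homOfLE (le_π c U.1.1 l)) := ⟨homOfLE e.le, Subsingleton.elim _ _, Subsingleton.elim _ _⟩
        infer_instance
      intro a
      obtain ⟨b, hb⟩ := h ((c.pt.presheaf.map (homOfLE (le_π c U.1.1 l)).op).hom a)
      exact ⟨b, (ConcreteCategory.bijective_of_isIso
        (c.pt.presheaf.map (homOfLE (le_π c U.1.1 l)).op)).1 hb⟩
    have k : ∀ (V : (D.obj l.left).Opens), V = D.map l.hom ⁻¹ᵁ U.1.1 →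
        Function.Surjective ((c.π.app l.left).app V) := fun V hV => hV ▸ h1
    rw [morphismRestrict_appTop]
    exact (ConcreteCategory.bijective_of_isIso (c.pt.presheaf.map _)).2.comp (k _ (Scheme.Opens.ι_image_top _))

end Groth.Agent.ModPairLib95
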